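import Cfsg.Agent.Lib.Dim3Max.Six.Data
import Cfsg.Agent.Lib.Dim3Max.URoot
import Cfsg.Agent.Lib.Dim3Max.FourFrame

/-!
S5777, row 7: reduction to the standard extraspecial group in the standard unitary group.
-/

set_option autoImplicit false
set_option linter.unusedSectionVars false

namespace CfsgLib.Dim3Max.USix

open scoped Matrix MatrixGroups
open CfsgLib.Maximal Six Four

universe u

variable {F : Type u} [Field F] [Fintype F] {q : ℕ} {τ : F ≃+* F}

/-- The data of the row give the standard group. -/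
def FrameStmt (F : Type u) [Field F] : Prop :=
  ∀ R : Subgroup (GL (Fin 3) F), (2 : F) ≠ 0 → (3 : F) ≠ 0 → Cfsg.Geo.IsSymplecticTypeGroup 3 R →
    Cfsg.Geo.ActsAbsolutelyIrreducibly (Cfsg.Geo.matrixSet R) → Nat.card R = 27 →
    Nat.card (Subgroup.center R) = 3 →
    ∃ (r : Root F) (g : GL (Fin 3) F), R.map (MulAut.conj g).toMonoidHom = r.grp

/-- The standard frame: without elations the normaliser is everything. -/
def CoreStmt (F : Type u) [Field F] (q : ℕ) : Prop :=
  ∀ r : Root F, ∀ M : Subgroup (GL (Fin 3) F), Cfsg.Geo.subgroupNormalizer r.grp ⊓ su3 F q ≤ M →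
    M ≤ su3 F q → ¬ HasElation M → M ≤ Cfsg.Geo.subgroupNormalizer r.grp

theorem mem_su3 {g : GL (Fin 3) F} : g ∈ su3 F q ↔
    (∀ u v, hf3 F q ((g : Matrix (Fin 3) (Fin 3) F) *ᵥ u) ((g : Matrix (Fin 3) (Fin 3) F) *ᵥ v) = hf3 F q u v) ∧
      (g : Matrix (Fin 3) (Fin 3) F).det = 1 :=
  and_congr (mem_GU_iff g) (mem_specialLinear_iff g)

theorem u_mem (r : Root F) (hq : Odd q) : r.u ∈ su3 F q := by
  refine mem_su3.2 ⟨fun a b => ?_, by simp [Root.u, Matrix.det_fin_three]⟩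
  simp [hf3, Cfsg.hermForm, Root.u, Matrix.mulVec, dotProduct, Fin.sum_univ_three, hq.neg_pow]

theorem u_not_normalizer (r : Root F) : r.u ∉ Cfsg.Geo.subgroupNormalizer r.grp := by
  intro h
  have h1 : r.u * r.y * r.u⁻¹ ∈ r.grp := (Subgroup.mem_normalizer_iff.1 h r.y).1 r.y_mem
  obtain ⟨a, b, c, e⟩ := r.mem_grp h1
  have hone : ∀ n : ℕ, (r.w ^ n) ^ 3 = 1 := fun n => by
    rw [← pow_mul, mul_comm, pow_mul, show r.w ^ 3 = 1 by linear_combination r.w_cube, one_pow]
  have hx : ((r.x : GL (Fin 3) F) : Matrix (Fin 3) (Fin 3) F) = Matrix.diagonal ![1, r.w, r.w * r.w] := by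
    ext i j; fin_cases i <;> fin_cases j <;> simp [Root.x]
  have e0 := congrArg (fun t : GL (Fin 3) F => (t : Matrix (Fin 3) (Fin 3) F) 0 1) e
  have hy : ∀ n : ℕ, ((r.y : GL (Fin 3) F) : Matrix (Fin 3) (Fin 3) F) ^ n =
      if n % 3 = 0 then 1 else if n % 3 = 1 then (r.y : Matrix (Fin 3) (Fin 3) F)
        else (r.y : Matrix (Fin 3) (Fin 3) F) * (r.y : Matrix (Fin 3) (Fin 3) F) := by
    intro n
    have h3 : ((r.y : GL (Fin 3) F) : Matrix (Fin 3) (Fin 3) F) ^ 3 = 1 := by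
      rw [← Units.val_pow_eq_pow_val, pow_succ, pow_two, r.y_cube, Units.val_one]
    conv_lhs => rw [← Nat.div_add_mod n 3, pow_add, pow_mul, h3, one_pow, one_mul]
    have := Nat.mod_lt n (show 3 > 0 by norm_num)
    interval_cases hn : n % 3 <;> simp [pow_two]
  simp only [Units.val_mul, Units.val_pow_eq_pow_val, r.om_val, hx, smul_pow, one_pow, Matrix.diagonal_pow,
    Matrix.smul_mul, one_mul, hy] at e0
  have h1' : ((r.u⁻¹ : GL (Fin 3) F) : Matrix (Fin 3) (Fin 3) F) = !![1, 0, 0; 0, -1, 0; 0, 0, -1] := rfl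
  rw [h1'] at e0
  have hm1 : ∀ n : ℕ, r.w ^ n ≠ -1 := fun n hn => r.h2 (by
    have := hone n; rw [hn] at this; linear_combination -this)
  split_ifs at e0 <;> simp [Root.u, Root.y, Matrix.mul_apply, Fin.sum_univ_three, Matrix.diagonal, Pi.pow_def] at e0
  exact hm1 c e0.symm

theorem two_three_ne (H : USetup (F := F) q τ) {p : ℕ} (hp : p.Prime) (hq : q = p) (h11 : 11 ≤ p) :
    (2 : F) ≠ 0 ∧ (3 : F) ≠ 0 ∧ Odd q := by
  have hF : Fintype.card F = p ^ 2 := hq ▸ H.card
  haveI : Fact p.Prime := ⟨hp⟩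
  haveI : CharP F p := charP_of_card_eq_prime_pow hF
  refine ⟨fun h => ?_, fun h => ?_, hq ▸ hp.odd_of_ne_two (by omega)⟩
  · have := (CharP.cast_eq_zero_iff F p 2).1 (by exact_mod_cast h)
    exact absurd (Nat.le_of_dvd (by norm_num) this) (by omega)
  · have := (CharP.cast_eq_zero_iff F p 3).1 (by exact_mod_cast h)
    exact absurd (Nat.le_of_dvd (by norm_num) this) (by omega)

/-- The frame is a similitude of the standard form. -/
theorem frame_similitude (H : USetup (F := F) q τ) (h3q : q % 3 = 2) {R : Subgroup (GL (Fin 3) F)}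
    (hR : R ≤ Cfsg.Geo.similarityGroup (hf3 F q)) {r : Root F} {g : GL (Fin 3) F} (hgR : conjG g R = r.grp) :
    (∃ l : F, l ≠ 0 ∧ ∀ u v, hf3 F q ((g : Matrix (Fin 3) (Fin 3) F) *ᵥ u) ((g : Matrix (Fin 3) (Fin 3) F) *ᵥ v) =
      l * hf3 F q u v) ∧ r.grp ≤ su3 F q := by
  -- the transported form
  have hf := H.form
  set f' : (Fin 3 → F) → (Fin 3 → F) → F := fun a b =>
    hf3 F q ((g : Matrix (Fin 3) (Fin 3) F) *ᵥ a) ((g : Matrix (Fin 3) (Fin 3) F) *ᵥ b) with hf'
  have hadd : ∀ a a' b, f' (a + a') b = f' a b + f' a' b := fun a a' b => by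
    simp only [hf']; rw [Matrix.mulVec_add, hf.add_left]
  have hsmul : ∀ (k : F) a b, f' (k • a) b = k * f' a b := fun k a b => by
    simp only [hf']; rw [Matrix.mulVec_smul, hf.smul_left]
  have haddr : ∀ a b b', f' a (b + b') = f' a b + f' a b' := fun a b b' => by
    simp only [hf']; rw [Matrix.mulVec_add, un_add_right hf]
  have hsmulr : ∀ (k : F) a b, f' a (k • b) = τ k * f' a b := fun k a b => by
    simp only [hf']; rw [Matrix.mulVec_smul, un_smul_right hf]
  -- elements of the group preserve the form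
  have hpres : ∀ z ∈ r.grp, z * z * z = 1 → ∀ a b,
      f' ((z : Matrix (Fin 3) (Fin 3) F) *ᵥ a) ((z : Matrix (Fin 3) (Fin 3) F) *ᵥ b) = f' a b := by
    intro z hz hz3
    obtain ⟨c, hc⟩ := hR (mem_conjG.1 (hgR.symm ▸ hz : z ∈ conjG g R))
    have hcv : ∀ a b, f' ((z : Matrix (Fin 3) (Fin 3) F) *ᵥ a) ((z : Matrix (Fin 3) (Fin 3) F) *ᵥ b) = c * f' a b := by
      intro a b
      have := hc ((g : Matrix (Fin 3) (Fin 3) F) *ᵥ a) ((g : Matrix (Fin 3) (Fin 3) F) *ᵥ b)
      simp only [Units.val_mul, Matrix.mulVec_mulVec, mul_assoc, Units.inv_mul, mul_one] at this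
      simpa [hf', Matrix.mulVec_mulVec] using this
    obtain ⟨a0, b0, hab⟩ : ∃ a b, f' a b ≠ 0 := by
      obtain ⟨x, hx⟩ := (hf.nondegenerate _ (mulVec_ne_zero g (c := ![1, 0, 0]) fun h =>
        one_ne_zero (α := F) (by simpa using congrFun h 0))).1
      obtain ⟨y, rfl⟩ := mulVec_surj g x
      exact ⟨y, _, hx⟩
    have hc3 : (c : F) ^ 3 = 1 := by
      refine mul_right_cancel₀ hab ?_
      rw [one_mul]
      calc (c : F) ^ 3 * f' a0 b0 = c * (c * (c * f' a0 b0)) := by ring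
        _ = _ := by
          rw [← hcv, ← hcv, ← hcv, Matrix.mulVec_mulVec, Matrix.mulVec_mulVec, Matrix.mulVec_mulVec,
            Matrix.mulVec_mulVec, ← Units.val_mul, ← Units.val_mul, hz3,
            Units.val_one, Matrix.one_mulVec, Matrix.one_mulVec]
    have hcc : τ (c : F) = c := by
      have e : f' ((z : Matrix (Fin 3) (Fin 3) F) *ᵥ b0) ((z : Matrix (Fin 3) (Fin 3) F) *ᵥ a0) =
          τ c * f' b0 a0 := by
        have := congrArg τ (hcv a0 b0)
        simp only [hf'] at this ⊢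
        rwa [← hf.herm, map_mul, ← hf.herm] at this
      rw [hcv] at e
      exact (mul_right_cancel₀ (fun h => hab (by
        simp only [hf'] at h ⊢; rw [hf.herm, h, map_zero])) e).symm
    have hc1 : (c : F) = 1 := by
      obtain ⟨k, hk⟩ : ∃ k, q = 3 * k + 2 := ⟨q / 3, by omega⟩
      rw [H.pow, hk, pow_add, pow_mul, hc3, one_pow, one_mul] at hcc
      have hc0 := c.ne_zero
      exact mul_left_cancel₀ hc0 (by rw [mul_one, ← pow_two]; exact hcc)
    intro a b
    rw [hcv, hc1, one_mul]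
  set E : Fin 3 → Fin 3 → F := fun i => Pi.single i 1 with hE
  have hexp : ∀ a : Fin 3 → F, a = a 0 • E 0 + a 1 • E 1 + a 2 • E 2 := fun a => by
    ext i; fin_cases i <;> simp [hE]
  have hw' : τ r.w = r.w * r.w := by
    obtain ⟨k, hk⟩ : ∃ k, q = 3 * k + 2 := ⟨q / 3, by omega⟩
    rw [H.pow, hk, pow_add, pow_mul, show r.w ^ 3 = 1 by linear_combination r.w_cube, one_pow, one_mul, pow_two]
  have hX := hpres r.x r.x_mem r.x_cube
  have hY := hpres r.y r.y_mem r.y_cube
  have hxE : ∀ i, (r.x : Matrix (Fin 3) (Fin 3) F) *ᵥ E i = ![1, r.w, r.w * r.w] i • E i := fun i => by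
    ext j; fin_cases i <;> fin_cases j <;> simp [hE, Root.x]
  have hyE : ∀ i : Fin 3, (r.y : Matrix (Fin 3) (Fin 3) F) *ᵥ E i = E (![2, 0, 1] i) := fun i => by
    ext j; fin_cases i <;> fin_cases j <;> simp [hE, Root.y]
  have hoff : ∀ i j, i ≠ j → f' (E i) (E j) = 0 := by
    intro i j hij
    have e := hX (E i) (E j)
    rw [hxE, hxE, hsmul, hsmulr, ← mul_assoc] at e
    by_contra hne
    have e1 : ![1, r.w, r.w * r.w] i * τ (![1, r.w, r.w * r.w] j) = 1 :=
      mul_right_cancel₀ hne (by rw [one_mul]; exact e)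
    have := r.w_ne_one; have := r.sq_ne_one
    fin_cases i <;> fin_cases j <;> first | exact absurd rfl hij | skip
    all_goals simp [hw'] at e1
    all_goals first
      | exact r.w_ne_one (by linear_combination e1)
      | exact r.sq_ne_one (by linear_combination e1)
      | exact r.w_ne_one (by linear_combination e1 - r.w * r.w_cube)
      | exact r.sq_ne_one (by linear_combination e1 - r.w * r.w * r.w_cube)
  have hd1 : f' (E 1) (E 1) = f' (E 0) (E 0) := by
    have := hY (E 1) (E 1); rw [hyE] at this; simpa using this.symm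
  have hd2 : f' (E 2) (E 2) = f' (E 0) (E 0) := by
    have := hY (E 0) (E 0); rw [hyE] at this; simpa using this
  set l := f' (E 0) (E 0) with hl
  have hform : ∀ a b, f' a b = l * hf3 F q a b := by
    intro a b
    conv_lhs => rw [hexp a, hexp b]
    simp only [hadd, haddr, hsmul, hsmulr, hoff 0 1 (by decide), hoff 0 2 (by decide), hoff 1 0 (by decide),
      hoff 1 2 (by decide), hoff 2 0 (by decide), hoff 2 1 (by decide), hd1, hd2, ← hl, H.pow,
      hf3, Cfsg.hermForm, Fin.sum_univ_three]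
    ring
  have hl0 : l ≠ 0 := by
    intro h0
    obtain ⟨x, hx⟩ := (hf.nondegenerate _ (mulVec_ne_zero g (c := ![1, 0, 0]) fun h =>
      one_ne_zero (α := F) (by simpa using congrFun h 0))).1
    obtain ⟨y, rfl⟩ := mulVec_surj g x
    exact hx (show f' y ![1, 0, 0] = 0 by rw [hform, h0, zero_mul])
  refine ⟨⟨l, hl0, hform⟩, (Subgroup.closure_le _).2 ?_⟩
  rintro z (rfl | rfl)
  · exact mem_su3.2 ⟨fun a b => mul_left_cancel₀ hl0 (by rw [← hform, ← hform]; exact hX a b),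
      (mem_specialLinear_iff _).1 r.x_sl⟩
  · exact mem_su3.2 ⟨fun a b => mul_left_cancel₀ hl0 (by rw [← hform, ← hform]; exact hY a b),
      (mem_specialLinear_iff _).1 r.y_sl⟩

theorem conjG_su3 {g : GL (Fin 3) F} {l : F} (hl : l ≠ 0) (hg : ∀ u v, hf3 F q ((g : Matrix (Fin 3) (Fin 3) F) *ᵥ u)
    ((g : Matrix (Fin 3) (Fin 3) F) *ᵥ v) = l * hf3 F q u v) : conjG g (su3 F q) = su3 F q := by
  ext m
  rw [mem_conjG, mem_su3, mem_su3]
  have hdet : ((g * m * g⁻¹ : GL (Fin 3) F) : Matrix (Fin 3) (Fin 3) F).det = (m : Matrix (Fin 3) (Fin 3) F).det := by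
    rw [Units.val_mul, Units.val_mul, Matrix.det_mul, Matrix.det_mul, mul_right_comm, ← Matrix.det_mul,
      Units.mul_inv, Matrix.det_one, one_mul]
  have hmv : ∀ a, ((g * m * g⁻¹ : GL (Fin 3) F) : Matrix (Fin 3) (Fin 3) F) *ᵥ ((g : Matrix (Fin 3) (Fin 3) F) *ᵥ a) =
      (g : Matrix (Fin 3) (Fin 3) F) *ᵥ ((m : Matrix (Fin 3) (Fin 3) F) *ᵥ a) := fun a => by
    rw [Matrix.mulVec_mulVec, Matrix.mulVec_mulVec, ← Units.val_mul, ← Units.val_mul, inv_mul_cancel_right]
  rw [hdet]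
  refine and_congr ⟨fun h a b => mul_left_cancel₀ hl ?_, fun h a b => ?_⟩ Iff.rfl
  · rw [← hg, ← hg, ← hmv, ← hmv, h]
  · obtain ⟨a, rfl⟩ := mulVec_surj g a
    obtain ⟨b, rfl⟩ := mulVec_surj g b
    simp only
    rw [hmv, hmv, hg, hg, h]

theorem uSixRow_of (hframe : FrameStmt F) (hcore : CoreStmt F q) (H : USetup (F := F) q τ) :
    USixRow (F := F) q := by
  intro p R hp hqp h3 h11 hS hirr hR hcard hZ
  obtain ⟨h2F, h3F, hodd⟩ := two_three_ne H hp hqp h11
  obtain ⟨r, g0, hg0⟩ := hframe R h2F h3F hS hirr hcard hZ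
  set g := g0⁻¹ with hgd
  have hgR : conjG g R = r.grp := by
    rw [← hg0]
    ext m
    rw [mem_conjG, Subgroup.mem_map]
    constructor
    · exact fun h => ⟨_, h, by simp [hgd, mul_assoc]⟩
    · rintro ⟨x, hx, rfl⟩
      simpa [hgd, mul_assoc] using hx
  obtain ⟨⟨l, hl, hg⟩, hgrp⟩ := frame_similitude H (hqp ▸ h3) hR hgR
  have hsu := conjG_su3 hl hg
  have hN : conjG g (Cfsg.Geo.subgroupNormalizer R) = Cfsg.Geo.subgroupNormalizer r.grp := by
    rw [← hgR]
    exact Subgroup.comap_normalizer_eq_of_surjective R (MulAut.conj g).surjective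
  have hmono : ∀ {A B : Subgroup (GL (Fin 3) F)}, conjG g A ≤ conjG g B → A ≤ B := fun h x hx => by
    have := h (show g⁻¹ * x * g ∈ conjG g _ by rw [mem_conjG]; convert hx using 1; group)
    rw [mem_conjG] at this
    convert this using 1; group
  have hinf : conjG g (Cfsg.Geo.subgroupNormalizer R ⊓ su3 F q) =
      Cfsg.Geo.subgroupNormalizer r.grp ⊓ su3 F q := by
    rw [← hN]; nth_rw 2 [← hsu]
    exact Subgroup.comap_inf _ _ _
  refine ⟨lt_of_le_of_ne inf_le_right fun he => ?_, fun M hHM hMS => ?_⟩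
  · have := (hinf.symm.trans ((congrArg (conjG g) he).trans hsu)).symm.le (u_mem r hodd)
    exact u_not_normalizer r this.1
  have hRH : R ≤ Cfsg.Geo.subgroupNormalizer R ⊓ su3 F q :=
    le_inf Subgroup.le_normalizer (hmono (by rw [hgR, hsu]; exact hgrp))
  have hirrM : Irr M := fun W hW => hirr.1 W fun s ⟨x, hx, hs⟩ => hW s ⟨x, hHM (hRH hx), hs⟩
  by_cases hel : HasElation M
  · exact .inr (le_antisymm hMS (uPrimeStmt H (hqp ▸ hp) M hMS hirrM hel))
  · refine .inl (le_antisymm (le_inf (hmono ?_) hMS) hHM)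
    rw [hN]
    refine hcore r _ (hinf ▸ Subgroup.comap_mono hHM) (hsu ▸ Subgroup.comap_mono hMS) ?_
    rintro ⟨c, φ, hc, hφ, h⟩
    exact hel ⟨_, _, mulVec_ne_zero g hc, vecMul_inv_ne_zero g hφ, has_conjG.1 h⟩

theorem frameStmt : FrameStmt F := fun _ h2 h3 hS hirr hR hZ =>
  exists_frame_of h2 h3 hS hirr hZ le_rfl (by rw [hR]; norm_num)

end CfsgLib.Dim3Max.USix
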