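import Cfsg.Agent.Lib.Dim3Max.USix.Members
import Cfsg.Agent.Lib.Dim3Max.Six.Setting

/-!
S5777, row 7, from the field-free core.
-/

set_option autoImplicit false
set_option linter.unusedSectionVars false

namespace CfsgLib.Dim3Max.USix

open scoped Matrix MatrixGroups
open CfsgLib.Maximal Six

universe u

variable {F : Type u} [Field F] [Fintype F] {q : ℕ} {τ : F ≃+* F}

/-- The field-free core. -/
def CoreHyp (F : Type u) [Field F] [Fintype F] : Prop :=
  ∀ (r : Root F) (p : ℕ) (M : Subgroup (GL (Fin 3) F)), (p % 9 = 1 ∨ p % 9 = 8 ↔ ∃ e : Fˣ, (e : F) ^ 3 = r.w) →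
    Six r p M → M ≤ Cfsg.Geo.subgroupNormalizer r.grp

/-- Cube roots of `w` exist exactly when nine divides `p + 1`. -/
theorem exists_root_iff (H : USetup (F := F) q τ) (h3q : q % 3 = 2) (r : Root F) :
    q % 9 = 1 ∨ q % 9 = 8 ↔ ∃ e : Fˣ, (e : F) ^ 3 = r.w := by
  have h3' := H.three_le
  have hsq : q ^ 2 - 1 = (q + 1) * (q - 1) := by rw [← Nat.sq_sub_sq, one_pow]
  constructor
  · intro h
    have h9 : 9 ∣ Nat.card Fˣ := by
      rw [Nat.card_units, Nat.card_eq_fintype_card, H.card, hsq]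
      exact Dvd.dvd.mul_right (by omega) _
    obtain ⟨z, hz⟩ := IsCyclic.exists_generator (α := Fˣ)
    have hzo : orderOf z = Nat.card Fˣ := orderOf_eq_card_of_forall_mem_zpowers hz
    obtain ⟨k, hk⟩ := h9
    have hk0 : k ≠ 0 := fun h0 => by
      rw [h0, mul_zero] at hk
      exact Nat.card_pos.ne' hk
    have he : orderOf (z ^ k) = 9 := by
      rw [orderOf_pow' z hk0, hzo, hk, Nat.gcd_mul_left_left, Nat.mul_div_cancel _ (Nat.pos_of_ne_zero hk0)]
    have h9' : (z ^ k) ^ 9 = 1 := he ▸ pow_orderOf_eq_one _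
    have hne : (z ^ k) ^ 3 ≠ 1 := fun e => by
      have := orderOf_dvd_of_pow_eq_one e
      rw [he] at this; norm_num at this
    obtain ⟨c, hc⟩ : ∃ c : F, (((z ^ k) ^ 3 : Fˣ) : F) = c := ⟨_, rfl⟩
    have hc3 : c ^ 3 = 1 := by
      rw [← hc, ← Units.val_pow_eq_pow_val, ← pow_mul, h9', Units.val_one]
    have hc1 : c ≠ 1 := fun e => hne (Units.ext (by rw [hc, e, Units.val_one]))
    have hfac : (c - r.w) * (c - r.w * r.w) = 0 := mul_left_cancel₀ (sub_ne_zero.2 hc1) (by
      linear_combination hc3 + (-c * c + c * r.w) * r.rel + (-(1 : F) + c) * r.w_cube - c * (r.w - 1) * r.rel)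
    rcases mul_eq_zero.1 hfac with h' | h'
    · exact ⟨z ^ k, by rw [← Units.val_pow_eq_pow_val, hc, sub_eq_zero.1 h']⟩
    · refine ⟨(z ^ k) ^ 2, ?_⟩
      rw [← Units.val_pow_eq_pow_val, ← pow_mul, mul_comm, pow_mul, Units.val_pow_eq_pow_val, hc, sub_eq_zero.1 h']
      linear_combination r.w * r.w_cube
  · rintro ⟨e, he⟩
    right
    have hord : orderOf (e : F) = 9 := by
      have h := orderOf_eq_prime_pow (p := 3) (n := 1) (x := (e : F)) (hp := ⟨Nat.prime_three⟩)
        (fun h => r.w_ne_one (by rw [← he]; simpa using h)) (by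
          rw [show (3 : ℕ) ^ (1 + 1) = 3 * 3 from rfl, pow_mul, he]
          linear_combination r.w_cube)
      simpa using h
    have hqq : (e : F) ^ (q ^ 2 - 1) = 1 := by
      rw [← H.card]; exact FiniteField.pow_card_sub_one_eq_one _ e.ne_zero
    have hd := orderOf_dvd_of_pow_eq_one hqq
    rw [hord, hsq] at hd
    have h3 : Nat.Coprime (3 ^ 2) (q - 1) :=
      Nat.Coprime.pow_left 2 ((Nat.Prime.coprime_iff_not_dvd Nat.prime_three).2 fun h => by omega)
    have := h3.dvd_of_dvd_mul_right hd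
    omega

theorem coreStmt (H : USetup (F := F) q τ) (hp : q.Prime) (h3q : q % 3 = 2) (h11 : 11 ≤ q)
    (hcore : CoreHyp F) : CoreStmt F q := by
  intro r M hNM hMS hel
  haveI := Fact.mk hp
  haveI hch : CharP F q := charP_of_card_eq_prime_pow H.card
  obtain ⟨-, -, hodd⟩ := two_three_ne H hp rfl h11
  obtain ⟨hx, hy, hf, hg, hz⟩ := members H h3q hodd r
  have hgrp : r.grp ≤ Cfsg.Geo.subgroupNormalizer r.grp := Subgroup.le_normalizer
  have hne : NoElation M := fun c φ hc hφ h => hel ⟨c, φ, hc, hφ, h⟩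
  refine hcore r q M (exists_root_iff H h3q r) ?_
  exact
    { prime := hp
      seven_le := by omega
      charP := hch
      le := hMS.trans inf_le_right
      noEl := hne
      x_mem := hNM ⟨hgrp r.x_mem, hx⟩
      y_mem := hNM ⟨hgrp r.y_mem, hy⟩
      f_mem := hNM ⟨r.f_mem_normalizer, hf⟩
      g_mem := hNM ⟨r.g_mem_normalizer, hg⟩
      z_mem := fun e he => hNM ⟨mul_mem (Subgroup.mem_normalizer_iff.2 fun v => by
        rw [scl_comm, mul_assoc, mul_inv_cancel, mul_one]) r.s_mem_normalizer, hz e he⟩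
      p_cent := fun u hu hup hu1 =>
        ⟨(p_centralizer H hp hne hMS hu hup hu1).1, (p_centralizer H hp hne hMS hu hup hu1).2.2⟩ }

theorem uSixRow (H : USetup (F := F) q τ) (hcore : CoreHyp F) : USixRow (F := F) q := by
  intro p R hp hqp h3 h11 hS hirr hR hcard hZ
  exact uSixRow_of frameStmt (coreStmt H (hqp ▸ hp) (hqp ▸ h3) (hqp ▸ h11) hcore) H p R hp hqp h3 h11 hS hirr hR
    hcard hZ

end CfsgLib.Dim3Max.USix
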