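import Cfsg.Agent.Lib.Dim3Max.Six.PElt
import Cfsg.Agent.Lib.Dim3Max.URoot

/-!
Centralisers of elements of order `p` in a subgroup of `SU₃(p)` without elations.
-/

set_option autoImplicit false
set_option linter.unusedSectionVars false

namespace CfsgLib.Dim3Max.USix

open scoped Matrix MatrixGroups
open CfsgLib.Maximal Six

universe u

variable {F : Type u} [Field F] [Fintype F] {p : ℕ} {τ : F ≃+* F}

/-- The centraliser of an element of order the characteristic. -/
theorem p_centralizer (H : USetup (F := F) p τ) (hp : p.Prime) {M : Subgroup (GL (Fin 3) F)} (hM : NoElation M)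
    (hleu : M ≤ su3 F p) {u : GL (Fin 3) F} (hu : u ∈ M) (hup : u ^ p = 1) (hu1 : u ≠ 1) :
    (∀ a ∈ M ⊓ Subgroup.centralizer {u}, ∀ b ∈ M ⊓ Subgroup.centralizer {u}, a * b = b * a) ∧
      (∀ a ∈ M ⊓ Subgroup.centralizer {u}, ∃ c : F, c ^ 3 = 1 ∧
        ((a ^ p : GL (Fin 3) F) : Matrix (Fin 3) (Fin 3) F) = c • (1 : Matrix (Fin 3) (Fin 3) F)) ∧
      Nat.card (M ⊓ Subgroup.centralizer {u} : Subgroup (GL (Fin 3) F)) ≤ 3 * p := by
  have hle : M ≤ sl3 F := hleu.trans inf_le_right
  have hp3 : 3 ≤ p := H.three_le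
  haveI : CharP F p := by
    haveI := Fact.mk hp
    exact charP_of_card_eq_prime_pow H.card
  haveI := Fact.mk hp
  classical
  set N := (u : Matrix (Fin 3) (Fin 3) F) - 1 with hNd
  have hN3 : N ^ 3 = 0 := sub_one_cube_of_pow hp hup
  have hN2 : N * N ≠ 0 := fun h => hu1 (hM.eq_one_of_sq hu h)
  obtain ⟨v, hv⟩ : ∃ v, N *ᵥ (N *ᵥ v) ≠ 0 := by
    by_contra hcon
    push Not at hcon
    exact hN2 (Matrix.toLin'.injective (LinearMap.ext fun v => by simpa [Matrix.mulVec_mulVec] using hcon v))
  have h3 : ∀ x, N *ᵥ (N *ᵥ (N *ᵥ x)) = 0 := fun x => by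
    rw [Matrix.mulVec_mulVec, Matrix.mulVec_mulVec, ← pow_two, ← pow_succ, hN3, Matrix.zero_mulVec]
  have hind : LinearIndependent F ![v, N *ᵥ v, N *ᵥ (N *ᵥ v)] := by
    rw [Fintype.linearIndependent_iff]
    intro g hg
    simp only [Fin.sum_univ_three, Matrix.cons_val_zero, Matrix.cons_val_one, Matrix.cons_val] at hg
    have e2 := congrArg (fun x => N *ᵥ (N *ᵥ x)) hg
    simp only [Matrix.mulVec_add, Matrix.mulVec_smul, h3, Matrix.mulVec_zero, smul_zero, add_zero,
      smul_eq_zero, hv, or_false] at e2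
    rw [e2, zero_smul, zero_add] at hg
    have e1 := congrArg (N *ᵥ ·) hg
    simp only [Matrix.mulVec_add, Matrix.mulVec_smul, h3, Matrix.mulVec_zero, smul_zero, add_zero,
      smul_eq_zero, hv, or_false] at e1
    rw [e1, zero_smul, zero_add, smul_eq_zero] at hg
    intro i
    fin_cases i
    · exact e2
    · exact e1
    · exact hg.resolve_right hv
  have hpoly : ∀ a : GL (Fin 3) F, a ∈ M ⊓ Subgroup.centralizer {u} → ∃ x y z : F,
      (a : Matrix (Fin 3) (Fin 3) F) = x • 1 + y • N + z • (N * N) := by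
    intro a ha
    have hc : (a : Matrix (Fin 3) (Fin 3) F) * N = N * (a : Matrix (Fin 3) (Fin 3) F) := by
      have := congrArg (fun g : GL (Fin 3) F => (g : Matrix (Fin 3) (Fin 3) F))
        (Subgroup.mem_centralizer_singleton_iff.1 ha.2)
      simp only [Units.val_mul] at this
      rw [hNd, mul_sub, sub_mul, this, mul_one, one_mul]
    have htop : Submodule.span F (Set.range ![v, N *ᵥ v, N *ᵥ (N *ᵥ v)]) = ⊤ :=
      hind.span_eq_top_of_card_eq_finrank (by simp)
    obtain ⟨g, hg⟩ := (Submodule.mem_span_range_iff_exists_fun F).1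
      (htop ▸ Submodule.mem_top (x := (a : Matrix (Fin 3) (Fin 3) F) *ᵥ v))
    simp only [Fin.sum_univ_three, Matrix.cons_val_zero, Matrix.cons_val_one, Matrix.cons_val] at hg
    refine ⟨g 0, g 1, g 2, Matrix.toLin'.injective (LinearMap.ext fun x => ?_)⟩
    rw [Matrix.toLin'_apply, Matrix.toLin'_apply]
    have hx : x ∈ Submodule.span F (Set.range ![v, N *ᵥ v, N *ᵥ (N *ᵥ v)]) := htop ▸ Submodule.mem_top
    have he : (a : Matrix (Fin 3) (Fin 3) F) *ᵥ v = (g 0 • 1 + g 1 • N + g 2 • (N * N)) *ᵥ v := by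
      simp [← hg, Matrix.add_mulVec, Matrix.smul_mulVec, Matrix.mulVec_mulVec]
    have hcB : (g 0 • (1 : Matrix (Fin 3) (Fin 3) F) + g 1 • N + g 2 • (N * N)) * N =
        N * (g 0 • (1 : Matrix (Fin 3) (Fin 3) F) + g 1 • N + g 2 • (N * N)) := by
      simp only [add_mul, mul_add, smul_mul_assoc, mul_smul_comm, one_mul, mul_one, mul_assoc]
    have he1 := congrArg (N *ᵥ ·) he
    simp only [Matrix.mulVec_mulVec, ← hc, ← hcB] at he1
    rw [← Matrix.mulVec_mulVec, ← Matrix.mulVec_mulVec] at he1
    have he2 := congrArg (N *ᵥ ·) he1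
    simp only [Matrix.mulVec_mulVec, ← mul_assoc, ← hc, ← hcB] at he2
    simp only [mul_assoc] at he2
    rw [← Matrix.mulVec_mulVec, ← Matrix.mulVec_mulVec, ← Matrix.mulVec_mulVec] at he2
    induction hx using Submodule.span_induction with
    | mem y hy =>
      obtain ⟨i, rfl⟩ := hy
      fin_cases i
      · exact he
      · exact he1
      · simpa [Matrix.mulVec_mulVec, mul_assoc] using he2
    | zero => simp
    | add y z _ _ hy hz => rw [Matrix.mulVec_add, Matrix.mulVec_add, hy, hz]
    | smul c y _ hy => rw [Matrix.mulVec_smul, Matrix.mulVec_smul, hy]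
  have hcomm : ∀ a ∈ M ⊓ Subgroup.centralizer {u}, ∀ b ∈ M ⊓ Subgroup.centralizer {u}, a * b = b * a := by
    intro a ha b hb
    obtain ⟨x, y, z, h⟩ := hpoly a ha
    obtain ⟨x', y', z', h'⟩ := hpoly b hb
    refine Units.ext ?_
    rw [Units.val_mul, Units.val_mul, h, h']
    simp only [add_mul, mul_add, smul_mul_assoc, mul_smul_comm, one_mul, mul_one, mul_assoc, smul_add, smul_smul]
    simp only [mul_comm x' , mul_comm y', mul_comm z']
    abel
  have hpres : ∀ a ∈ M, ∀ v w, hf3 F p ((a : Matrix (Fin 3) (Fin 3) F) *ᵥ v) ((a : Matrix (Fin 3) (Fin 3) F) *ᵥ w) =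
      hf3 F p v w := fun a ha => (mem_GU_iff a).1 (hleu ha).1
  have hf := H.form
  set w := N *ᵥ v with hw
  set t := N *ᵥ w with ht
  have hNt : N *ᵥ t = 0 := h3 v
  have hstep : ∀ a b, hf3 F p (N *ᵥ a) b + hf3 F p a (N *ᵥ b) + hf3 F p (N *ᵥ a) (N *ᵥ b) = 0 := by
    intro a b
    have := hpres u hu a b
    rw [show (u : Matrix (Fin 3) (Fin 3) F) = 1 + N by rw [hNd]; abel, Matrix.add_mulVec, Matrix.add_mulVec,
      Matrix.one_mulVec, Matrix.one_mulVec, hf.add_left, un_add_right hf, un_add_right hf] at this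
    linear_combination this
  have hr0 : ∀ a, hf3 F p a 0 = 0 := fun a => by rw [hf.herm, un_zero_left hf, map_zero]
  have s1 := hstep w t
  rw [hNt, hr0, hr0, ← ht, add_zero, add_zero] at s1
  have s2 := hstep v t
  rw [hNt, hr0, hr0, ← hw, add_zero, add_zero] at s2
  have s3 := hstep w w
  rw [← ht, s2, s1, add_zero, add_zero] at s3
  have s4 := hstep v w
  rw [← ht, ← hw, s2, add_zero] at s4
  have s5 := hstep w v
  rw [← ht, ← hw, s3, add_zero] at s5
  have hκeq : hf3 F p v t = hf3 F p t v := by linear_combination s4 - s5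
  have hww : hf3 F p w w = -hf3 F p t v := by linear_combination s5
  set κ := hf3 F p t v
  have hκ : κ ≠ 0 := by
    intro hk
    obtain ⟨x, hx⟩ := (hf.nondegenerate t hv).2
    apply hx; clear hx
    have hx' : x ∈ Submodule.span F (Set.range ![v, w, t]) := by
      rw [hind.span_eq_top_of_card_eq_finrank (by simp)]; exact Submodule.mem_top
    induction hx' using Submodule.span_induction with
    | mem y hy =>
      obtain ⟨i, rfl⟩ := hy
      fin_cases i
      · exact hk
      · exact s3
      · exact s1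
    | zero => exact hr0 t
    | add y z _ _ hy hz => simp [un_add_right hf, hy, hz]
    | smul c y _ hy => simp [un_smul_right hf, hy]
  have hact : ∀ a ∈ M ⊓ Subgroup.centralizer {u}, ∀ x y z : F,
      (a : Matrix (Fin 3) (Fin 3) F) = x • 1 + y • N + z • (N * N) → x * τ x = 1 ∧ x * τ y = y * τ x := by
    intro a ha x y z h
    have et : (a : Matrix (Fin 3) (Fin 3) F) *ᵥ t = x • t := by
      simp [h, Matrix.add_mulVec, Matrix.smul_mulVec, ← Matrix.mulVec_mulVec, hNt]
    have ew : (a : Matrix (Fin 3) (Fin 3) F) *ᵥ w = x • w + y • t := by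
      simp [h, Matrix.add_mulVec, Matrix.smul_mulVec, ← Matrix.mulVec_mulVec, ← ht, hNt]
    have ev : (a : Matrix (Fin 3) (Fin 3) F) *ᵥ v = x • v + y • w + z • t := by
      simp [h, Matrix.add_mulVec, Matrix.smul_mulVec, ← Matrix.mulVec_mulVec, ← hw, ← ht]
    have e1 := hpres a ha.1 t v
    rw [et, ev] at e1
    simp only [hf.smul_left, un_add_right hf, un_smul_right hf, s1, s3, mul_zero, add_zero] at e1
    have e1' : x * τ x = 1 := mul_right_cancel₀ hκ (by linear_combination e1)
    have e2 := hpres a ha.1 w v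
    rw [ew, ev] at e2
    simp only [hf.add_left, hf.smul_left, un_add_right hf, un_smul_right hf, s1, s2, s3, hww, mul_zero,
      add_zero] at e2
    exact ⟨e1', mul_right_cancel₀ hκ (by linear_combination -e2 + (hf3 F p w v) * e1')⟩
  have hpow : ∀ a : GL (Fin 3) F, ∀ x y z : F,
      (a : Matrix (Fin 3) (Fin 3) F) = x • 1 + y • N + z • (N * N) →
      ((a ^ p : GL (Fin 3) F) : Matrix (Fin 3) (Fin 3) F) = x ^ p • (1 : Matrix (Fin 3) (Fin 3) F) := by
    intro a x y z h
    have hd : (y • N + z • (N * N)) ^ p = 0 := by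
      refine pow_eq_zero_of_le hp3 ?_
      rw [show y • N + z • (N * N) = N * (y • 1 + z • N) by
        rw [mul_add, mul_smul_comm, mul_smul_comm, mul_one],
        (show Commute N (y • 1 + z • N) by
          exact ((Commute.one_right N).smul_right y).add_right ((Commute.refl N).smul_right z)).mul_pow, hN3,
        zero_mul]
    rw [Units.val_pow_eq_pow_val, h, add_assoc,
      add_pow_char_of_commute p ((Commute.one_left _).smul_left x), hd, add_zero, smul_pow, one_pow]
  have hroot : ∀ a ∈ M ⊓ Subgroup.centralizer {u}, ∀ x y z : F,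
      (a : Matrix (Fin 3) (Fin 3) F) = x • 1 + y • N + z • (N * N) → x ^ 3 = 1 := by
    intro a ha x y z h
    have hd : Matrix.GeneralLinearGroup.det (a ^ p) = 1 := by
      rw [map_pow, show Matrix.GeneralLinearGroup.det a = 1 from hle ha.1, one_pow]
    have h2 : ((a ^ p : GL (Fin 3) F) : Matrix (Fin 3) (Fin 3) F).det = 1 := congrArg Units.val hd
    rw [hpow a x y z h, Matrix.det_smul, Matrix.det_one, mul_one, Fintype.card_fin, ← pow_mul, mul_comm, pow_mul] at h2
    exact frobenius_inj F p (show (x ^ 3) ^ p = (1 : F) ^ p by rw [h2, one_pow])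
  have hfix : ∀ a ∈ M ⊓ Subgroup.centralizer {u}, ∀ x y z : F,
      (a : Matrix (Fin 3) (Fin 3) F) = x • 1 + y • N + z • (N * N) → (y / x) ^ p = y / x := by
    intro a ha x y z h
    obtain ⟨e1, e2⟩ := hact a ha x y z h
    rw [← H.pow, map_div₀, div_eq_div_iff (right_ne_zero_of_mul_eq_one e1) (left_ne_zero_of_mul_eq_one e1)]
    linear_combination e2
  refine ⟨hcomm, fun a ha => ?_, ?_⟩
  · obtain ⟨x, y, z, h⟩ := hpoly a ha
    exact ⟨x ^ p, by rw [← pow_mul, mul_comm, pow_mul, hroot a ha x y z h, one_pow], hpow a x y z h⟩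
  · choose x y z h using hpoly
    let T : Finset F := (Finset.univ.filter fun c : F => c ^ 3 = 1)
    let Y : Finset F := (Finset.univ.filter fun c : F => c ^ p = c)
    have hY : Y.card ≤ p := by
      have hne : (Polynomial.X ^ p - Polynomial.X : Polynomial F) ≠ 0 :=
        FiniteField.X_pow_card_sub_X_ne_zero F (by omega)
      have hsub : Y ⊆ (Polynomial.X ^ p - Polynomial.X : Polynomial F).roots.toFinset := fun c hc => by
        simp only [Y, Finset.mem_filter] at hc
        rw [Multiset.mem_toFinset, Polynomial.mem_roots hne, Polynomial.IsRoot.def]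
        simp [hc.2]
      exact (Finset.card_le_card hsub).trans ((Multiset.toFinset_card_le _).trans
        ((Polynomial.card_roots' _).trans (by rw [FiniteField.X_pow_card_sub_X_natDegree_eq F (by omega)])))
    have hT : T.card ≤ 3 := by
      have hsub : T ⊆ (Polynomial.X ^ 3 - Polynomial.C (1 : F)).roots.toFinset := fun c hc => by
        simp only [T, Finset.mem_filter] at hc
        simp only [Multiset.mem_toFinset, Polynomial.mem_roots']
        exact ⟨(Polynomial.monic_X_pow_sub_C (1 : F) (by norm_num : (3 : ℕ) ≠ 0)).ne_zero, by simp [hc.2]⟩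
      exact (Finset.card_le_card hsub).trans ((Multiset.toFinset_card_le _).trans
        ((Polynomial.card_roots' _).trans (by rw [Polynomial.natDegree_X_pow_sub_C])))
    have hinj : Function.Injective fun a : (M ⊓ Subgroup.centralizer {u} : Subgroup (GL (Fin 3) F)) =>
        ((⟨x a a.2, by simp [T, hroot a a.2 _ _ _ (h a a.2)]⟩ : T),
          (⟨y a a.2 / x a a.2, by simp [Y, hfix a a.2 _ _ _ (h a a.2)]⟩ : Y)) := by
      intro a b hab
      simp only [Prod.mk.injEq, Subtype.mk.injEq] at hab
      obtain ⟨hab0, hab1⟩ := hab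
      have hxy : y a a.2 = y b b.2 := by
        rw [hab0] at hab1
        have hxb : x b b.2 ≠ 0 := fun e => by simpa [e] using hroot b b.2 _ _ _ (h b b.2)
        field_simp at hab1
        exact hab1
      have hq := hM.eq_one_of_sq (u := ((a : GL (Fin 3) F))⁻¹ * b) (mul_mem (inv_mem a.2.1) b.2.1) ?_
      · exact Subtype.ext (inv_mul_eq_one.1 hq)
      set A := ((a : GL (Fin 3) F) : Matrix (Fin 3) (Fin 3) F)
      set Ai := (((a : GL (Fin 3) F))⁻¹ : GL (Fin 3) F).val
      have hd : ((b : GL (Fin 3) F) : Matrix (Fin 3) (Fin 3) F) - A = (z b b.2 - z a a.2) • (N * N) := by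
        rw [h b b.2, show A = _ from h a a.2, hab0, hxy, sub_smul]
        abel
      have hAN : A * N = N * A := by
        have := congrArg (fun g : GL (Fin 3) F => (g : Matrix (Fin 3) (Fin 3) F))
          (Subgroup.mem_centralizer_singleton_iff.1 a.2.2)
        simp only [Units.val_mul] at this
        rw [hNd, mul_sub, sub_mul, this, mul_one, one_mul]
      have hiA : Ai * A = 1 := (a : GL (Fin 3) F).inv_mul
      have hAi : A * Ai = 1 := (a : GL (Fin 3) F).mul_inv
      have hAiN : Ai * N = N * Ai := by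
        calc Ai * N = Ai * (N * (A * Ai)) := by rw [hAi, mul_one]
          _ = Ai * (A * N) * Ai := by rw [hAN]; simp only [mul_assoc]
          _ = N * Ai := by rw [← mul_assoc Ai, hiA, one_mul]
      have he : (((a : GL (Fin 3) F))⁻¹ * b : GL (Fin 3) F).val - 1 = (z b b.2 - z a a.2) • (Ai * (N * N)) := by
        rw [Units.val_mul, ← mul_smul_comm, ← hd, mul_sub, hiA]
      rw [he, smul_mul_smul_comm]
      have h3' : N * (N * N) = 0 := by rw [← pow_two, ← pow_succ', hN3]
      have h4 : (N * N) * Ai * (N * N) = 0 := by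
        calc (N * N) * Ai * (N * N) = N * (N * Ai) * (N * N) := by simp only [mul_assoc]
          _ = N * (Ai * N) * (N * N) := by rw [hAiN]
          _ = N * Ai * (N * (N * N)) := by simp only [mul_assoc]
          _ = 0 := by rw [h3', mul_zero]
      rw [show Ai * (N * N) * (Ai * (N * N)) = Ai * ((N * N) * Ai * (N * N)) by simp only [mul_assoc], h4, mul_zero,
        smul_zero]
    refine (Nat.card_le_card_of_injective _ hinj).trans ?_
    rw [Nat.card_prod, Nat.card_eq_fintype_card, Nat.card_eq_fintype_card, Fintype.card_coe, Fintype.card_coe]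
    exact Nat.mul_le_mul hT hY

end CfsgLib.Dim3Max.USix
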