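import Cfsg.Agent.Lib.Dim3Max.USix.Reduce
import Cfsg.Agent.Lib.Dim3Max.USix.PElt

/-!
The normalising elements of the standard frame lie in the special unitary group.
-/

set_option autoImplicit false
set_option linter.unusedSectionVars false

namespace CfsgLib.Dim3Max.USix

open scoped Matrix MatrixGroups
open CfsgLib.Maximal Six

universe u

variable {F : Type u} [Field F] [Fintype F] {q : ℕ} {τ : F ≃+* F}

theorem tau_w (H : USetup (F := F) q τ) (h3q : q % 3 = 2) (r : Root F) : τ r.w = r.w * r.w := by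
  obtain ⟨k, hk⟩ : ∃ k, q = 3 * k + 2 := ⟨q / 3, by omega⟩
  rw [H.pow, hk, pow_add, pow_mul, show r.w ^ 3 = 1 by linear_combination r.w_cube, one_pow, one_mul, pow_two]

theorem mem_su3_of_adj (H : USetup (F := F) q τ) {g : GL (Fin 3) F}
    (h : (g : Matrix (Fin 3) (Fin 3) F)ᵀ * ((g : Matrix (Fin 3) (Fin 3) F).map τ) = 1)
    (hd : g ∈ sl3 F) : g ∈ su3 F q := by
  refine mem_su3.2 ⟨fun u v => ?_, (mem_specialLinear_iff _).1 hd⟩
  have hh : ∀ a b : Fin 3 → F, hf3 F q a b = a ⬝ᵥ fun i => τ (b i) := fun a b => by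
    simp [hf3, Cfsg.hermForm, dotProduct, H.pow]
  have e : (fun i => τ (((g : Matrix (Fin 3) (Fin 3) F) *ᵥ v) i)) =
      (g : Matrix (Fin 3) (Fin 3) F).map τ *ᵥ fun i => τ (v i) := by
    funext i; simp [Matrix.mulVec, dotProduct, map_sum]
  rw [hh, hh, e, Matrix.dotProduct_mulVec, ← Matrix.vecMul_transpose, Matrix.vecMul_vecMul, h, Matrix.vecMul_one]

theorem members (H : USetup (F := F) q τ) (h3q : q % 3 = 2) (hodd : Odd q) (r : Root F) :
    r.x ∈ su3 F q ∧ r.y ∈ su3 F q ∧ r.f ∈ su3 F q ∧ r.g ∈ su3 F q ∧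
      ∀ e : Fˣ, (e : F) ^ 3 = r.w → scl e * r.s ∈ su3 F q := by
  have hw := tau_w H h3q r
  have hw3 := r.w_cube
  have hr := r.rel
  have hx : r.x ∈ su3 F q := by
    refine mem_su3_of_adj H ?_ r.x_sl
    ext i j
    fin_cases i <;> fin_cases j <;> simp [Root.x, Matrix.mul_apply, Fin.sum_univ_three, hw, map_mul]
    · linear_combination hw3
    · linear_combination (r.w * r.w * r.w + 1) * hw3
  have hy : r.y ∈ su3 F q := by
    refine mem_su3_of_adj H ?_ r.y_sl
    ext i j
    fin_cases i <;> fin_cases j <;> simp [Root.y, Matrix.mul_apply, Fin.sum_univ_three]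
  have hk : τ r.k = -r.k := by
    rw [Root.k, map_inv₀, map_sub, map_mul, hw,
      show r.w * r.w * (r.w * r.w) = r.w by linear_combination r.w * hw3, ← inv_neg, neg_sub]
  have hk2 : r.k * r.k * 3 = -1 := by linear_combination -r.k_sq
  have hf : r.f ∈ su3 F q := by
    refine mem_su3_of_adj H ?_ r.f_sl
    rw [show (r.f : Matrix (Fin 3) (Fin 3) F) =
      r.k • !![1, 1, 1; 1, r.w, r.w * r.w; 1, r.w * r.w, r.w] from rfl]
    ext i j
    fin_cases i <;> fin_cases j <;> simp [Matrix.mul_apply, Fin.sum_univ_three, hw, hk, map_mul]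
    all_goals first
      | linear_combination -hk2
      | linear_combination -r.k * r.k * hr
      | linear_combination -r.k * r.k * hr - r.k * r.k * r.w * hw3
      | linear_combination -hk2 - 2 * r.k * r.k * hw3
      | linear_combination -r.k * r.k * hr - 2 * r.k * r.k * r.w * hw3
      | linear_combination -hk2 - r.k * r.k * (r.w * r.w * r.w + 2) * hw3
      | linear_combination -r.k * r.k * hr - r.k * r.k * (r.w + r.w * r.w) * hw3
  refine ⟨hx, hy, hf, ?_, ?_⟩
  · have hs : ∀ g : GL (Fin 3) F, g ∈ Cfsg.GU 3 F q → r.s * g * r.s⁻¹ ∈ Cfsg.GU 3 F q := by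
      intro g hg
      have hsU : r.s ∈ Cfsg.GU 3 F q := (mem_GU_iff _).2 fun u v => by
        simp [hf3, Cfsg.hermForm, Root.s, Matrix.mulVec, dotProduct, Fin.sum_univ_three, mul_pow, ← H.pow, hw]
        linear_combination (u 1 * τ (v 1) + u 2 * τ (v 2)) * hw3
      exact mul_mem (mul_mem hsU hg) (inv_mem hsU)
    exact ⟨hs _ hf.1, r.g_sl⟩
  · intro e he
    have he0 := e.ne_zero
    have h9 : (e : F) ^ 9 = 1 := by
      rw [show (9 : ℕ) = 3 * 3 from rfl, pow_mul, he]; linear_combination hw3
    have hdvd : 9 ∣ q + 1 := by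
      have hord : orderOf (e : F) = 9 := by
        have h := orderOf_eq_prime_pow (p := 3) (n := 1) (x := (e : F)) (hp := ⟨Nat.prime_three⟩)
          (fun h => r.w_ne_one (by rw [← he]; simpa using h)) (by simpa using h9)
        simpa using h
      have hqq : (e : F) ^ (q ^ 2 - 1) = 1 := by
        rw [← H.card]; exact FiniteField.pow_card_sub_one_eq_one _ he0
      have := orderOf_dvd_of_pow_eq_one hqq
      rw [hord, show q ^ 2 - 1 = (q + 1) * (q - 1) from by
        rw [← Nat.sq_sub_sq, one_pow]] at this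
      refine (Nat.Coprime.dvd_of_dvd_mul_right ?_ this)
      refine (Nat.Coprime.pow_left 2 ((Nat.Prime.coprime_iff_not_dvd Nat.prime_three).2 fun h => ?_) : Nat.Coprime (3 ^ 2) _)
      omega
    have hte : (e : F) * τ (e : F) = 1 := by
      rw [H.pow, ← pow_succ']
      obtain ⟨k, hk⟩ := hdvd
      rw [hk, pow_mul, h9, one_pow]
    refine mem_su3_of_adj H ?_ ?_
    · rw [scl_mul_val]
      ext i j
      fin_cases i <;> fin_cases j <;> simp [Root.s, Matrix.mul_apply, Fin.sum_univ_three, hw, map_mul]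
      all_goals first
        | linear_combination hte
        | linear_combination hte + (e : F) * τ (e : F) * hw3
    · show Matrix.GeneralLinearGroup.det (scl e * r.s) = 1
      refine Units.ext ?_
      simp only [Matrix.GeneralLinearGroup.val_det_apply, scl_mul_val, Matrix.det_smul, Fintype.card_fin,
        Units.val_one]
      simp [Root.s, Matrix.det_fin_three, he]
      linear_combination hw3

end CfsgLib.Dim3Max.USix
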