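import Cfsg.Agent.Lib.Dim3Max.USix.Main
import Cfsg.Agent.Lib.Dim3Max.Six.Core

/-!
S5777, row 7, unconditional.
-/

set_option autoImplicit false

namespace CfsgLib.Dim3Max.USix

open CfsgLib.Maximal Six

universe u

variable {F : Type u} [Field F] [Fintype F] {q : ℕ} {τ : F ≃+* F}

/-- The field-free core holds. -/
theorem coreHyp : CoreHyp F := fun _ _ _ hiff h => h.le_normalizer hiff.2

/-- The sixth unitary row. -/
theorem uSixRow' (H : USetup (F := F) q τ) : USixRow (F := F) q := uSixRow H coreHyp

end CfsgLib.Dim3Max.USix
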